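import Mathlib

/-!
# Abstract category theory for `ℋom(F, -)` of finitely presented modules (helper74)

* `preservesColimit_of_pointwise_limit`: a functor which is pointwise a `K`-shaped limit of functors
  preserving the colimit of a diagram `D : Λ ⥤ ℬ` preserves this colimit as soon as `Λ`-shaped
  colimits commute with `K`-shaped limits in the target.
* `isLimitKernelForkConjugate`: if `L₁ ⟶ L₂ ⟶ L₃` is pointwise a cokernel sequence of left
  adjoints, the conjugate sequence `R₃ ⟶ R₂ ⟶ R₁` of right adjoints is pointwise a kernel sequence.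
* `isLimitFanConjugate`: if `L` is pointwise the coproduct of left adjoints `L i`, then its right
  adjoint is pointwise the product of the right adjoints.
-/

set_option autoImplicit false
universe v₁ v₂ v₃ v₄ u₁ u₂ u₃ u₄

open CategoryTheory CategoryTheory.Limits

namespace Groth.Agent.Lib.Helper74.HomFP

section LimitOfFunctors

variable {ℬ : Type u₁} [Category.{v₁} ℬ] {𝒜 : Type u₂} [Category.{v₂} 𝒜]
  {Λ : Type u₃} [Category.{v₃} Λ] {K : Type u₄} [Category.{v₄} K]
  [HasColimitsOfShape Λ 𝒜] [PreservesLimitsOfShape K (colim : (Λ ⥤ 𝒜) ⥤ 𝒜)]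

theorem preservesColimit_of_pointwise_limit (D : Λ ⥤ ℬ) {Φ : K ⥤ ℬ ⥤ 𝒜} (s : Cone Φ)
    (hs : ∀ G : ℬ, IsLimit (((evaluation ℬ 𝒜).obj G).mapCone s))
    (hΦ : ∀ k, PreservesColimit D (Φ.obj k)) : PreservesColimit D s.pt := by
  constructor
  intro c hc
  let W : (ℬ ⥤ 𝒜) ⥤ (Λ ⥤ 𝒜) := (Functor.whiskeringLeft Λ ℬ 𝒜).obj D
  have h1 : IsLimit (W.mapCone s) :=
    evaluationJointlyReflectsLimits _ (fun l => hs (D.obj l))
  have h2 : IsLimit (colim.mapCone (W.mapCone s)) := isLimitOfPreserves colim h1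
  have h3 := hs c.pt
  have ck : ∀ k : K, IsColimit ((Φ.obj k).mapCocone c) := fun k =>
    isColimitOfPreserves (Φ.obj k) hc
  let α : (Φ ⋙ W) ⋙ colim ≅ Φ ⋙ (evaluation ℬ 𝒜).obj c.pt :=
    NatIso.ofComponents
      (fun k => (colimit.isColimit (D ⋙ Φ.obj k)).coconePointUniqueUpToIso (ck k)) (by
        intro k k' f
        apply colimit.hom_ext
        intro l
        dsimp [W]
        rw [ι_colimMap_assoc]
        erw [IsColimit.comp_coconePointUniqueUpToIso_hom,
          IsColimit.comp_coconePointUniqueUpToIso_hom_assoc]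
        dsimp
        rw [NatTrans.naturality])
  let e := IsLimit.conePointsIsoOfNatIso h2 h3 α
  have he : (colimit.isColimit (D ⋙ s.pt)).desc (s.pt.mapCocone c) = e.hom := by
    apply h3.hom_ext
    intro k
    rw [IsLimit.conePointsIsoOfNatIso_hom_comp]
    apply colimit.hom_ext
    intro l
    dsimp [W, α]
    rw [ι_colimMap_assoc]
    erw [IsColimit.comp_coconePointUniqueUpToIso_hom]
    dsimp
    rw [colimit.ι_desc_assoc]
    dsimp
    rw [NatTrans.naturality]
  have hiso : IsIso ((colimit.isColimit (D ⋙ s.pt)).desc (s.pt.mapCocone c)) := by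
    rw [he]; infer_instance
  exact ⟨IsColimit.ofPointIso (colimit.isColimit (D ⋙ s.pt))⟩

end LimitOfFunctors

section Conjugates

variable {𝒜 : Type u₁} [Category.{v₁} 𝒜] {ℬ : Type u₂} [Category.{v₂} ℬ]

lemma homEquiv_symm_comp_conjugate {L L' : 𝒜 ⥤ ℬ} {R R' : ℬ ⥤ 𝒜}
    (adj : L ⊣ R) (adj' : L' ⊣ R') (α : L' ⟶ L) {T : 𝒜} {N : ℬ} (φ : T ⟶ R.obj N) :
    (adj'.homEquiv T N).symm (φ ≫ (conjugateEquiv adj adj' α).app N) =
      α.app T ≫ (adj.homEquiv T N).symm φ := by
  rw [Adjunction.homEquiv_counit, Adjunction.homEquiv_counit, Functor.map_comp, Category.assoc,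
    conjugateEquiv_counit, ← Category.assoc, α.naturality, Category.assoc]

lemma homEquiv_symm_conjugate {L L' : 𝒜 ⥤ ℬ} {R R' : ℬ ⥤ 𝒜}
    (adj : L ⊣ R) (adj' : L' ⊣ R') (α : L' ⟶ L) (N : ℬ) :
    (adj'.homEquiv _ N).symm ((conjugateEquiv adj adj' α).app N) =
      α.app _ ≫ adj.counit.app N := by
  have h := homEquiv_symm_comp_conjugate adj adj' α (𝟙 (R.obj N))
  rw [Category.id_comp] at h
  rw [h, Adjunction.homEquiv_counit, CategoryTheory.Functor.map_id, Category.id_comp]

section Kernel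

variable [HasZeroMorphisms 𝒜] [HasZeroMorphisms ℬ]
  {L₁ L₂ L₃ : 𝒜 ⥤ ℬ} {R₁ R₂ R₃ : ℬ ⥤ 𝒜} [L₁.PreservesZeroMorphisms]
  (adj₁ : L₁ ⊣ R₁) (adj₂ : L₂ ⊣ R₂) (adj₃ : L₃ ⊣ R₃)
  (α : L₁ ⟶ L₂) (β : L₂ ⟶ L₃) (w : ∀ T, α.app T ≫ β.app T = 0)

include w in
lemma conj_comp_zero (G : ℬ) :
    (conjugateEquiv adj₃ adj₂ β).app G ≫ (conjugateEquiv adj₂ adj₁ α).app G = 0 := by
  apply (adj₁.homEquiv _ _).symm.injective
  rw [homEquiv_symm_comp_conjugate adj₂ adj₁ α, homEquiv_symm_conjugate adj₃ adj₂ β,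
    ← Category.assoc, w, zero_comp, Adjunction.homEquiv_counit, Functor.map_zero, zero_comp]

lemma homEquiv_symm_zero (T : 𝒜) (G : ℬ) : (adj₁.homEquiv T G).symm 0 = 0 := by
  rw [Adjunction.homEquiv_counit, Functor.map_zero, zero_comp]

/-- the conjugate of a pointwise cokernel sequence of left adjoints is a pointwise kernel
sequence of right adjoints -/
noncomputable def isLimitKernelForkConjugate
    (hc : ∀ T, IsColimit (CokernelCofork.ofπ (β.app T) (w T))) (G : ℬ) :
    IsLimit (KernelFork.ofι ((conjugateEquiv adj₃ adj₂ β).app G)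
      (conj_comp_zero adj₁ adj₂ adj₃ α β w G)) := by
  have key : ∀ {W' : 𝒜} (g' : W' ⟶ R₂.obj G), g' ≫ (conjugateEquiv adj₂ adj₁ α).app G = 0 →
      α.app W' ≫ (adj₂.homEquiv W' G).symm g' = 0 := by
    intro W' g' hg'
    rw [← homEquiv_symm_comp_conjugate adj₂ adj₁ α, hg', homEquiv_symm_zero]
  refine KernelFork.IsLimit.ofι _ _
    (fun {W'} g' hg' => adj₃.homEquiv W' G
      ((hc W').desc (CokernelCofork.ofπ ((adj₂.homEquiv W' G).symm g') (key g' hg'))))
    (fun {W'} g' hg' => ?_) (fun {W'} g' hg' m hm => ?_)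
  · apply (adj₂.homEquiv _ _).symm.injective
    rw [homEquiv_symm_comp_conjugate adj₃ adj₂ β, Equiv.symm_apply_apply]
    exact (hc W').fac (CokernelCofork.ofπ ((adj₂.homEquiv W' G).symm g') (key g' hg'))
      WalkingParallelPair.one
  · apply (adj₃.homEquiv _ _).symm.injective
    rw [Equiv.symm_apply_apply]
    apply Cofork.IsColimit.hom_ext (hc W')
    have h1 := (hc W').fac (CokernelCofork.ofπ ((adj₂.homEquiv W' G).symm g') (key g' hg'))
      WalkingParallelPair.one
    dsimp at h1 ⊢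
    rw [h1, ← homEquiv_symm_comp_conjugate adj₃ adj₂ β, hm]

end Kernel

section Product

variable {ι : Type*} {L : 𝒜 ⥤ ℬ} {R : ℬ ⥤ 𝒜} (adj : L ⊣ R)
  {Li : ι → 𝒜 ⥤ ℬ} {Ri : ι → ℬ ⥤ 𝒜} (adji : ∀ i, Li i ⊣ Ri i) (inj : ∀ i, Li i ⟶ L)

/-- the right adjoint of a pointwise coproduct of left adjoints is pointwise the product of the
right adjoints -/
noncomputable def isLimitFanConjugate
    (hc : ∀ T, IsColimit (Cofan.mk (L.obj T) (fun i => (inj i).app T))) (G : ℬ) :
    IsLimit (Fan.mk (R.obj G) (fun i => (conjugateEquiv adj (adji i) (inj i)).app G)) := by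
  refine mkFanLimit _
    (fun s => adj.homEquiv _ G
      (Cofan.IsColimit.desc (hc s.pt) (fun i => ((adji i).homEquiv _ G).symm (s.proj i))))
    (fun s i => ?_) (fun s m hm => ?_)
  · apply ((adji i).homEquiv _ _).symm.injective
    dsimp
    rw [homEquiv_symm_comp_conjugate adj (adji i) (inj i), Equiv.symm_apply_apply]
    exact Cofan.IsColimit.fac (hc s.pt) _ i
  · apply (adj.homEquiv _ _).symm.injective
    rw [Equiv.symm_apply_apply]
    apply Cofan.IsColimit.hom_ext (hc s.pt)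
    intro i
    rw [Cofan.IsColimit.fac]
    dsimp
    rw [← homEquiv_symm_comp_conjugate adj (adji i) (inj i)]
    congr 1
    exact hm i

end Product

end Conjugates

end Groth.Agent.Lib.Helper74.HomFP
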