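import Groth.Prelude.Def_CohCx
import Groth.Agent.Lib.Helper74.ToposFilt
import Groth.Agent.Lib.Helper74.CanonicalTopos
import Mathlib

/-!
# Global sections and filtered colimits in a topos with enough coherent covers of the final object
(helper74)

Let `S` be a set of sheaves of sets on a small site such that every epimorphism `F ⟶ *` is refined
by some `K ⟶ F` with `K ∈ S` and `K ⟶ *` epimorphic, and `K × K` is quasi-compact for `K ∈ S`. Then
`Hom(*, -)` commutes with filtered colimits of sheaves of sets.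
-/

set_option autoImplicit false
universe u

open CategoryTheory CategoryTheory.Limits Opposite

namespace Groth.Agent.Lib.Helper74.HomFP

open Groth.Agent.Lib.Helper74.ToposFilt Groth.Agent.Lib.Helper74.CanonicalTopos
open Groth.Agent.Lib.Helper28

variable {C : Type u} [SmallCategory C] {J : GrothendieckTopology C}

instance subsingleton_terminal_sections (U : C) :
    Subsingleton ((⊤_ (Sheaf J (Type u))).obj.obj (op U)) :=
  (secEquiv J (⊤_ (Sheaf J (Type u))) U).symm.subsingleton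

/-- the unique section of the final sheaf -/
noncomputable def ptSec (U : C) : (⊤_ (Sheaf J (Type u))).obj.obj (op U) :=
  secEquiv J (⊤_ (Sheaf J (Type u))) U (terminal.from _)

section colim

variable {I : Type u} [SmallCategory I] (D : I ⥤ Sheaf J (Type u))

/-- sections of a colimit of sheaves of sets locally come from the diagram -/
lemma colimit_locally_surjective {c : Cocone D} (hc : IsColimit c) (U : C)
    (z : c.pt.obj.obj (op U)) :
    ∃ S ∈ J U, ∀ ⦃V : C⦄ (g : V ⟶ U), S g →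
      ∃ (i : I) (y : (D.obj i).obj.obj (op V)),
        (c.ι.app i).hom.app (op V) y = c.pt.obj.map g.op z := by
  obtain ⟨E, hE⟩ : ∃ E : Cocone (D ⋙ sheafToPresheaf J (Type u)), Nonempty (IsColimit E) :=
    ⟨colimit.cocone _, ⟨colimit.isColimit _⟩⟩
  obtain ⟨hE⟩ := hE
  have hc' := Sheaf.isColimitSheafifyCocone E hE
  let e := hc.coconePointUniqueUpToIso hc'
  let z' := e.hom.hom.app (op U) z
  refine ⟨_, Presheaf.imageSieve_mem J (toSheafify J E.pt) z', ?_⟩
  intro V g hg
  obtain ⟨w, hw⟩ := hg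
  have hEV := isColimitOfPreserves ((evaluation Cᵒᵖ (Type u)).obj (op V)) hE
  obtain ⟨i, y, hy⟩ := Types.jointly_surjective_of_isColimit hEV w
  refine ⟨i, y, ?_⟩
  have e1 : c.ι.app i ≫ e.hom = (Sheaf.sheafifyCocone E).ι.app i :=
    IsColimit.comp_coconePointUniqueUpToIso_hom hc hc' i
  have e2 : e.hom.hom.app (op V) ((c.ι.app i).hom.app (op V) y) =
      e.hom.hom.app (op V) (c.pt.obj.map g.op z) := by
    have h1 : e.hom.hom.app (op V) ((c.ι.app i).hom.app (op V) y) =
        ((Sheaf.sheafifyCocone E).ι.app i).hom.app (op V) y := by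
      rw [← e1]; rfl
    rw [h1, Sheaf.sheafifyCocone_ι_app_val]
    have h2 : (toSheafify J E.pt).app (op V) ((E.ι.app i).app (op V) y) =
        (toSheafify J E.pt).app (op V) w := by
      congr 1
    have h3 := NatTrans.naturality_apply e.hom.hom g.op z
    exact h2.trans (hw.trans h3.symm)
  have hinj : Function.Injective (e.hom.hom.app (op V)) := by
    have : IsIso (e.hom.hom.app (op V)) :=
      inferInstanceAs (IsIso (((sheafToPresheaf J (Type u)) ⋙
        (evaluation Cᵒᵖ (Type u)).obj (op V)).map e.hom))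
    exact ((isIso_iff_bijective _).mp this).1
  exact hinj e2

end colim

section main

variable {Λ : Type u} [SmallCategory Λ] [IsFiltered Λ] (D : Λ ⥤ Sheaf J (Type u))

/-- for a quasi-compact `X` (elementwise sense), two maps `X ⟶ D k` which agree in the filtered
colimit agree further in the diagram -/
lemma exists_map_eq_of_isQcObject {X : Sheaf J (Type u)} (hX : CohCx.IsQcObject X) {c : Cocone D}
    (hc : IsColimit c) (k : Λ) (f₁ f₂ : X ⟶ D.obj k) (h : f₁ ≫ c.ι.app k = f₂ ≫ c.ι.app k) :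
    ∃ (j : Λ) (φ : k ⟶ j), f₁ ≫ D.map φ = f₂ ≫ D.map φ := by
  classical
  let Φ := Σ j : Λ, (k ⟶ j)
  let E : Φ → Sheaf J (Type u) := fun φ => equalizer (f₁ ≫ D.map φ.2) (f₂ ≫ D.map φ.2)
  let e : ∀ φ : Φ, E φ ⟶ X := fun φ => equalizer.ι (f₁ ≫ D.map φ.2) (f₂ ≫ D.map φ.2)
  have he : CohCx.JointlySurjective e := by
    intro U x
    have hx : (c.ι.app k).hom.app (op U) (f₁.hom.app (op U) x) =
        (c.ι.app k).hom.app (op U) (f₂.hom.app (op U) x) :=
      congr_fun (congr_arg (fun φ => (φ.hom.app (op U) : _ → _)) h) x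
    obtain ⟨S, hS, hSx⟩ := locally_eq_of_colimit_eq D hc k U _ _ hx
    refine ⟨S, hS, fun V g hg => ?_⟩
    obtain ⟨j, φ, hφ⟩ := hSx g hg
    let z := X.obj.map g.op x
    let σ := (secEquiv J X V).symm z
    have hσ : σ ≫ (f₁ ≫ D.map φ) = σ ≫ (f₂ ≫ D.map φ) := by
      apply (secEquiv J _ V).injective
      rw [secEquiv_comp, secEquiv_comp, Equiv.apply_symm_apply]
      have n1 := NatTrans.naturality_apply f₁.hom g.op x
      have n2 := NatTrans.naturality_apply f₂.hom g.op x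
      change (D.map φ).hom.app (op V) (f₁.hom.app (op V) z) =
        (D.map φ).hom.app (op V) (f₂.hom.app (op V) z)
      rw [n1, n2]
      exact hφ
    refine ⟨⟨j, φ⟩, secEquiv J _ V (equalizer.lift σ hσ), ?_⟩
    rw [← secEquiv_comp, equalizer.lift_ι, Equiv.apply_symm_apply]
  obtain ⟨t, ht⟩ := hX Φ E e he
  have hje : JointlyEpi (fun φ : t => e φ.1) := by
    apply jointlyEpi_of_locally_surjective
    intro U x
    obtain ⟨S, hS, hSx⟩ := ht U x
    exact ⟨S, hS, fun V g hg => hSx V g hg⟩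
  obtain ⟨j₀, ψ₀, hψ⟩ := exists_dominating k t
  refine ⟨j₀, ψ₀, hje _ _ _ ?_⟩
  rintro ⟨φ, hφ⟩
  obtain ⟨β, hβ⟩ := hψ φ hφ
  change e φ ≫ f₁ ≫ D.map ψ₀ = e φ ≫ f₂ ≫ D.map ψ₀
  rw [← hβ, D.map_comp]
  have this : e φ ≫ f₁ ≫ D.map φ.2 = e φ ≫ f₂ ≫ D.map φ.2 :=
    equalizer.condition (f₁ ≫ D.map φ.2) (f₂ ≫ D.map φ.2)
  calc e φ ≫ f₁ ≫ D.map φ.2 ≫ D.map β = (e φ ≫ f₁ ≫ D.map φ.2) ≫ D.map β := by
        simp only [Category.assoc]
    _ = (e φ ≫ f₂ ≫ D.map φ.2) ≫ D.map β := by rw [this]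
    _ = e φ ≫ f₂ ≫ D.map φ.2 ≫ D.map β := by simp only [Category.assoc]

variable (S : Set (Sheaf J (Type u)))
  (hSa : ∀ F : Sheaf J (Type u), Epi (terminal.from F) →
    ∃ K ∈ S, Epi (terminal.from K) ∧ Nonempty (K ⟶ F))
  (hSb : ∀ K ∈ S, CohCx.IsQcObject (K ⨯ K))

lemma epi_terminal_from_prod {K : Sheaf J (Type u)} (hK : Epi (terminal.from K)) :
    Epi (terminal.from (K ⨯ K)) := by
  have h1 : terminal.from (K ⨯ K) = (prod.fst : K ⨯ K ⟶ K) ≫ terminal.from K :=
    Subsingleton.elim _ _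
  haveI : IsSplitEpi (prod.fst : K ⨯ K ⟶ K) :=
    ⟨⟨prod.lift (𝟙 K) (𝟙 K), prod.lift_fst _ _⟩⟩
  rw [h1]
  exact epi_comp _ _

include hSa hSb in
/-- injectivity part -/
theorem exists_map_eq_terminal {c : Cocone D} (hc : IsColimit c) (k : Λ)
    (σ₁ σ₂ : ⊤_ (Sheaf J (Type u)) ⟶ D.obj k) (h : σ₁ ≫ c.ι.app k = σ₂ ≫ c.ι.app k) :
    ∃ (j : Λ) (φ : k ⟶ j), σ₁ ≫ D.map φ = σ₂ ≫ D.map φ := by
  obtain ⟨K, hK, hKepi, -⟩ := hSa (⊤_ _) (by
    have h0 : terminal.from (⊤_ (Sheaf J (Type u))) = 𝟙 _ := Subsingleton.elim _ _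
    rw [h0]; infer_instance)
  have hπ := epi_terminal_from_prod hKepi
  obtain ⟨j, φ, hφ⟩ := exists_map_eq_of_isQcObject D (hSb K hK) hc k
    (terminal.from (K ⨯ K) ≫ σ₁) (terminal.from (K ⨯ K) ≫ σ₂) (by
      rw [Category.assoc, Category.assoc, h])
  refine ⟨j, φ, ?_⟩
  rw [← cancel_epi (terminal.from (K ⨯ K))]
  simpa only [Category.assoc] using hφ

include hSa hSb in
/-- surjectivity part -/
theorem exists_factor_terminal {c : Cocone D} (hc : IsColimit c)
    (σ : ⊤_ (Sheaf J (Type u)) ⟶ c.pt) :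
    ∃ (j : Λ) (t : ⊤_ (Sheaf J (Type u)) ⟶ D.obj j), t ≫ c.ι.app j = σ := by
  classical
  -- the sheaves of local lifts of `σ`
  let F : Λ → Sheaf J (Type u) := fun l => pullback (c.ι.app l) σ
  obtain ⟨K, hK, hKepi, -⟩ := hSa (⊤_ _) (by
    have h0 : terminal.from (⊤_ (Sheaf J (Type u))) = 𝟙 _ := Subsingleton.elim _ _
    rw [h0]; infer_instance)
  have hq : CohCx.IsQcObject (K ⨯ K) := hSb K hK
  have hπ := epi_terminal_from_prod hKepi
  let L : Λ → Sheaf J (Type u) := fun l => F l ⨯ (K ⨯ K)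
  let f : ∀ l, L l ⟶ K ⨯ K := fun l => prod.snd
  have hf : CohCx.JointlySurjective f := by
    intro U x
    let z : c.pt.obj.obj (op U) := σ.hom.app (op U) (ptSec U)
    obtain ⟨R, hR, hR'⟩ := colimit_locally_surjective D hc U z
    refine ⟨R, hR, fun V g hg => ?_⟩
    obtain ⟨l, y, hy⟩ := hR' g hg
    let a : (gen J).obj V ⟶ D.obj l := (secEquiv J _ V).symm y
    let b : (gen J).obj V ⟶ ⊤_ (Sheaf J (Type u)) := terminal.from _
    have hab : a ≫ c.ι.app l = b ≫ σ := by
      apply (secEquiv J _ V).injective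
      rw [secEquiv_comp, Equiv.apply_symm_apply, hy, secEquiv_comp]
      have h1 := NatTrans.naturality_apply σ.hom g.op (ptSec U)
      refine h1.symm.trans ?_
      congr 1
      exact Subsingleton.elim _ _
    let xV : (gen J).obj V ⟶ K ⨯ K := (secEquiv J _ V).symm ((K ⨯ K).obj.map g.op x)
    refine ⟨l, secEquiv J _ V (prod.lift (pullback.lift a b hab) xV), ?_⟩
    rw [← secEquiv_comp, prod.lift_snd, Equiv.apply_symm_apply]
  obtain ⟨T, hT⟩ := hq Λ L f hf
  obtain ⟨j, hj⟩ := IsFiltered.sup_objs_exists T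
  -- `F j ⟶ *` is an epimorphism
  have hFj : Epi (terminal.from (F j)) := by
    have hje : JointlyEpi (fun _ : PUnit.{1} => terminal.from (F j)) := by
      apply jointlyEpi_of_locally_surjective
      intro U x
      -- the sieve of arrows over which `F j` has a section
      let S' : Sieve U :=
        { arrows := fun V _ => Nonempty ((F j).obj.obj (op V))
          downward_closed := by
            rintro V W g ⟨y⟩ k
            exact ⟨(F j).obj.map k.op y⟩ }
      have hS' : S' ∈ J U := by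
        have hls : Sheaf.IsLocallySurjective (terminal.from (K ⨯ K)) :=
          (Sheaf.isLocallySurjective_iff_epi _).mpr hπ
        refine J.transitive (Presheaf.imageSieve_mem J (terminal.from (K ⨯ K)).hom x) S' ?_
        rintro V g ⟨xq, -⟩
        obtain ⟨R₂, hR₂, hR₂'⟩ := hT V xq
        refine J.superset_covering ?_ hR₂
        intro W k hk
        obtain ⟨l, w, -⟩ := hR₂' W k hk
        obtain ⟨φ⟩ := hj l.2
        -- the section of `F l` and its image in `F j`
        let wl : (gen J).obj W ⟶ F l.1 := (secEquiv J _ W).symm w ≫ prod.fst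
        let m : F l.1 ⟶ F j := pullback.lift (pullback.fst _ _ ≫ D.map φ) (pullback.snd _ _) (by
          rw [Category.assoc, c.w, pullback.condition])
        exact ⟨secEquiv J _ W (wl ≫ m)⟩
      refine ⟨S', hS', fun V g hg => ?_⟩
      obtain ⟨y⟩ := hg
      exact ⟨PUnit.unit, y, Subsingleton.elim _ _⟩
    exact ⟨fun a b hab => hje _ a b (fun _ => hab)⟩
  obtain ⟨K', hK', hK'epi, ⟨u⟩⟩ := hSa (F j) hFj
  let t : K' ⟶ D.obj j := u ≫ pullback.fst _ _
  have ht : t ≫ c.ι.app j = terminal.from K' ≫ σ := by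
    have h1 : u ≫ pullback.snd (c.ι.app j) σ = terminal.from K' := Subsingleton.elim _ _
    rw [Category.assoc, pullback.condition, ← Category.assoc, h1]
  have e1 : ((prod.fst : K' ⨯ K' ⟶ K') ≫ t) ≫ c.ι.app j = terminal.from (K' ⨯ K') ≫ σ := by
    rw [Category.assoc, ht, ← Category.assoc]
    congr 1
    exact Subsingleton.elim _ _
  have e2 : ((prod.snd : K' ⨯ K' ⟶ K') ≫ t) ≫ c.ι.app j = terminal.from (K' ⨯ K') ≫ σ := by
    rw [Category.assoc, ht, ← Category.assoc]
    congr 1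
    exact Subsingleton.elim _ _
  obtain ⟨j', φ, hφ⟩ := exists_map_eq_of_isQcObject D (hSb K' hK') hc j
    ((prod.fst : K' ⨯ K' ⟶ K') ≫ t) ((prod.snd : K' ⨯ K' ⟶ K') ≫ t) (e1.trans e2.symm)
  haveI := hK'epi
  have hreg := IsRegularEpiCategory.regularEpiOfEpi (terminal.from K')
  have heff : EffectiveEpi (terminal.from K') := (isRegularEpi_iff_effectiveEpi _).mp hreg
  let g : K' ⟶ D.obj j' := t ≫ D.map φ
  have hg : ∀ {Z : Sheaf J (Type u)} (g₁ g₂ : Z ⟶ K'),
      g₁ ≫ terminal.from K' = g₂ ≫ terminal.from K' → g₁ ≫ g = g₂ ≫ g := by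
    intro Z g₁ g₂ _
    calc g₁ ≫ g = prod.lift g₁ g₂ ≫ (prod.fst ≫ t) ≫ D.map φ := by
          simp only [g, Category.assoc, prod.lift_fst_assoc]
      _ = prod.lift g₁ g₂ ≫ (prod.snd ≫ t) ≫ D.map φ := by rw [hφ]
      _ = g₂ ≫ g := by simp only [g, Category.assoc, prod.lift_snd_assoc]
  refine ⟨j', EffectiveEpi.desc (terminal.from K') g hg, ?_⟩
  rw [← cancel_epi (terminal.from K'), ← Category.assoc, EffectiveEpi.fac]
  simp only [g, Category.assoc]
  rw [c.w, ht]

end main

end Groth.Agent.Lib.Helper74.HomFP
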