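import Mathlib
import Groth.Prelude.Def_ModSite
import Groth.Agent.Lib.Helper30.ExtZeroFlat
import Groth.Agent.Lib.Helper30.SheafHomSections
import Groth.Agent.Lib.Helper30.ModTensorAdj
import Groth.Agent.S9107
import Groth.Agent.Lib.Helper74.HomFP.Abstract

/-!
# `ℋom(F, -)` commutes with filtered colimits when `F` has a global finite presentation (helper74)
-/

set_option autoImplicit false
universe u

open CategoryTheory CategoryTheory.Limits Opposite

namespace Groth.Agent.Lib.Helper74.HomFP

open Groth.Agent.Lib.Helper30 Groth.Agent.Lib.Helper30.ExtZero Groth.Agent.Lib.Helper30.ModTensorAdj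

variable {C : Type u} [SmallCategory C] {J : GrothendieckTopology C} (O : Sheaf J CommRingCat.{u})

/-- `- ⊗ A` -/
noncomputable abbrev tns (A : ModSite.Mod O) : ModSite.Mod O ⥤ ModSite.Mod O :=
  (ModSite.tensorBi O).flip.obj A

/-- `- ⊗ a` -/
noncomputable abbrev tmap {A B : ModSite.Mod O} (a : A ⟶ B) : tns O A ⟶ tns O B :=
  (ModSite.tensorBi O).flip.map a

variable {O}

/-- contravariant functoriality of the internal hom -/
noncomputable def homMap {A B : ModSite.Mod O} (a : A ⟶ B) :
    ModSite.sheafHom B ⟶ ModSite.sheafHom A :=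
  conjugateEquiv (ModSite.sheafHomAdj B) (ModSite.sheafHomAdj A) (tmap O a)

variable (O)

/-- `ℋom(O, -) ≅ id` -/
noncomputable def sheafHomUnitIso : ModSite.sheafHom (ModSite.unit O) ≅ 𝟭 (ModSite.Mod O) :=
  (ModSite.sheafHomAdj (ModSite.unit O)).rightAdjointUniq
    (Adjunction.id.ofNatIsoLeft (tensorUnitIso O).symm)

instance sheafHomUnit_preservesColimits :
    PreservesColimitsOfSize.{u, u} (ModSite.sheafHom (ModSite.unit O)) :=
  preservesColimits_of_natIso (sheafHomUnitIso O).symm

variable {O}

instance obj_preservesZeroMorphisms (T : ModSite.Mod O) :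
    ((ModSite.tensorBi O).obj T).PreservesZeroMorphisms :=
  Functor.preservesZeroMorphisms_of_isLeftAdjoint _

variable {Λ : Type u} [SmallCategory Λ] [IsFiltered Λ]

instance : HasExactColimitsOfShape Λ (ModSite.Mod O) := Groth.Agent.S9107.result O Λ

/-- `ℋom(O^I, -)` preserves filtered colimits for finite `I` -/
theorem preservesColimit_sheafHom_free (I : Type u) [Finite I] (D : Λ ⥤ ModSite.Mod O) :
    PreservesColimit D (ModSite.sheafHom (SheafOfModules.free (R := ModSite.ringSh O) I)) := by
  haveI : Fintype I := Fintype.ofFinite I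
  let A : I → ModSite.Mod O := fun _ => ModSite.unit O
  let inj : ∀ i : I, ModSite.unit O ⟶ SheafOfModules.free (R := ModSite.ringSh O) I :=
    fun i => Sigma.ι A i
  have hc : ∀ T : ModSite.Mod O, IsColimit (Cofan.mk ((tns O (SheafOfModules.free I)).obj T)
      (fun i => (tmap O (inj i)).app T)) := by
    intro T
    have h1 : IsColimit (((ModSite.tensorBi O).obj T).mapCocone (Cofan.mk (∐ A) (Sigma.ι A))) :=
      isColimitOfPreserves _ (coproductIsCoproduct A)
    exact (isColimitMapCoconeCofanMkEquiv ((ModSite.tensorBi O).obj T) A (Sigma.ι A)) h1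
  let Φ : Discrete I ⥤ ModSite.Mod O ⥤ ModSite.Mod O :=
    Discrete.functor (fun _ => ModSite.sheafHom (ModSite.unit O))
  let s : Cone Φ := Fan.mk (ModSite.sheafHom (SheafOfModules.free (R := ModSite.ringSh O) I))
    (fun i => homMap (inj i))
  have hs : ∀ G : ModSite.Mod O, IsLimit (((evaluation _ _).obj G).mapCone s) := by
    intro G
    refine (isLimitMapConeFanMkEquiv ((evaluation _ _).obj G) _ _).symm ?_
    exact isLimitFanConjugate (ModSite.sheafHomAdj (SheafOfModules.free I))
      (fun _ => ModSite.sheafHomAdj (ModSite.unit O)) (fun i => tmap O (inj i)) hc G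
  have hΦ : ∀ k, PreservesColimit D (Φ.obj k) := fun k => by
    dsimp [Φ]
    infer_instance
  exact preservesColimit_of_pointwise_limit D s hs hΦ

/-- `ℋom(F, -)` preserves filtered colimits if `F` has a global finite presentation -/
theorem preservesColimit_sheafHom_of_presentation (F : ModSite.Mod O)
    (P : SheafOfModules.Presentation F) (hPfin : P.IsFinite) (D : Λ ⥤ ModSite.Mod O) :
    PreservesColimit D (ModSite.sheafHom F) := by
  haveI := hPfin
  let f : SheafOfModules.free (R := ModSite.ringSh O) P.relations.I ⟶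
      SheafOfModules.free P.generators.I :=
    (SheafOfModules.freeHomEquiv _).symm P.relations.s ≫ kernel.ι _
  let π : SheafOfModules.free (R := ModSite.ringSh O) P.generators.I ⟶ F := P.generators.π
  have hfπ : f ≫ π = 0 := by simp [f, π]
  have hP : IsColimit (CokernelCofork.ofπ π hfπ) := P.isColimit
  have w : ∀ T : ModSite.Mod O, (tmap O f).app T ≫ (tmap O π).app T = 0 := by
    intro T
    show ((ModSite.tensorBi O).obj T).map f ≫ ((ModSite.tensorBi O).obj T).map π = 0
    rw [← Functor.map_comp, hfπ, Functor.map_zero]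
  have hc : ∀ T : ModSite.Mod O, IsColimit (CokernelCofork.ofπ ((tmap O π).app T) (w T)) := by
    intro T
    exact CokernelCofork.mapIsColimit _ hP ((ModSite.tensorBi O).obj T)
  have w' : homMap π ≫ homMap f = 0 := by
    apply NatTrans.ext
    funext G
    exact conj_comp_zero (ModSite.sheafHomAdj _) (ModSite.sheafHomAdj _) (ModSite.sheafHomAdj _)
      (tmap O f) (tmap O π) w G
  let s : Cone (parallelPair (homMap f) 0) := KernelFork.ofι (homMap π) w'
  have hs : ∀ G : ModSite.Mod O, IsLimit (((evaluation _ _).obj G).mapCone s) := by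
    intro G
    refine (isLimitMapConeForkEquiv' ((evaluation _ _).obj G) w').symm ?_
    exact isLimitKernelForkConjugate (ModSite.sheafHomAdj _) (ModSite.sheafHomAdj _)
      (ModSite.sheafHomAdj _) (tmap O f) (tmap O π) w hc G
  have hΦ : ∀ k, PreservesColimit D ((parallelPair (homMap f) 0).obj k) := by
    rintro (_ | _)
    · exact preservesColimit_sheafHom_free P.generators.I D
    · exact preservesColimit_sheafHom_free P.relations.I D
  exact preservesColimit_of_pointwise_limit D s hs hΦ

end Groth.Agent.Lib.Helper74.HomFP
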