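import Mathlib
import Groth.Prelude.Def_ModSite
import Groth.Agent.Lib.Helper30.ExtZeroProjS
import Groth.Agent.Lib.Helper30.ModTensorAdj
import Groth.Agent.Lib.Helper30.ModSAFT
import Groth.Agent.Lib.Helper36.PushTrunc.ExactLocal

/-!
# Localisation tools for internal homs on a ringed site (helper74)

* `sheafHomRestrIso`: `ℋom(N, -)|_X ≅ ℋom(N|_X, (-)|_X)` (conjugate of helper30's projection formula).
* `restr_preservesColimits`: restriction to `C/X` preserves all colimits.
* `isIso_of_isIso_restr`: a morphism of modules which is an isomorphism on the members of a family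
  covering the final object is an isomorphism.
* `preservesColimit_of_restr`: preservation of a colimit can be checked after restriction to such
  a family.
-/

set_option autoImplicit false
universe u

open CategoryTheory CategoryTheory.Limits Opposite

namespace Groth.Agent.Lib.Helper74.HomFP

open Groth.Agent.Lib.Helper30 Groth.Agent.Lib.Helper30.ExtZero
open Groth.Agent.Lib.Helper74.ModQc Groth.Agent.Lib.Helper36.PushTrunc

variable {C : Type u} [SmallCategory C] {J : GrothendieckTopology C} (O : Sheaf J CommRingCat.{u})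

/-- `ℋom(N, -)|_X ≅ ℋom(N|_X, (-)|_X)`. -/
noncomputable def sheafHomRestrIso (N : ModSite.Mod O) (X : C) :
    ModSite.sheafHom N ⋙ ModSite.restr O X ≅
      ModSite.restr O X ⋙ ModSite.sheafHom ((ModSite.restr O X).obj N) :=
  let adj₁ : (ModSite.tensorBi (O.over X)).flip.obj ((ModSite.restr O X).obj N) ⋙
      ModSite.extZero O X ⊣ ModSite.restr O X ⋙ ModSite.sheafHom ((ModSite.restr O X).obj N) :=
    (ModSite.sheafHomAdj _).comp (ModSite.extZeroAdj O X)
  let adj₂ : ModSite.extZero O X ⋙ (ModSite.tensorBi O).flip.obj N ⊣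
      ModSite.sheafHom N ⋙ ModSite.restr O X :=
    (ModSite.extZeroAdj O X).comp (ModSite.sheafHomAdj N)
  adj₂.rightAdjointUniq (adj₁.ofNatIsoLeft (projIsoP O X N))

instance restr_preservesColimits (X : C) :
    PreservesColimitsOfSize.{u, u} (ModSite.restr O X) :=
  ModSAFT.pushforward_preservesColimits (F := Over.forget X) (𝟙 ((ModSite.ringSh O).over X))

variable {O}

lemma restr_map_app {M N : ModSite.Mod O} (φ : M ⟶ N) {X V : C} (g : V ⟶ X)
    (x : M.val.obj (op V)) :
    ((ModSite.restr O X).map φ).val.app (op (Over.mk g)) x = φ.val.app (op V) x := rfl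

lemma bijective_of_isIso_restr {M N : ModSite.Mod O} (φ : M ⟶ N) {X V : C} (g : V ⟶ X)
    (h : IsIso ((ModSite.restr O X).map φ)) : Function.Bijective (secMap φ V) := by
  have h1 : IsIso ((SheafOfModules.evaluation _ (op (Over.mk g))).map
      ((ModSite.restr O X).map φ)) := inferInstance
  have h2 := ConcreteCategory.bijective_of_isIso
    ((SheafOfModules.evaluation _ (op (Over.mk g))).map ((ModSite.restr O X).map φ))
  exact h2

theorem isIso_of_isIso_restr {I : Type*} (X : I → C) (hX : J.CoversTop X)
    {M N : ModSite.Mod O} (φ : M ⟶ N)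
    (h : ∀ i, IsIso ((ModSite.restr O (X i)).map φ)) : IsIso φ := by
  have hbij : ∀ (V : C) (i : I) (_ : V ⟶ X i), Function.Bijective (secMap φ V) :=
    fun V i g => bijective_of_isIso_restr φ g (h i)
  have hmono : Mono φ := by
    let S : ShortComplex (ModSite.Mod O) := ShortComplex.mk (0 : M ⟶ M) φ zero_comp
    have hS : S.Exact := by
      apply exact_of_locallyExact
      intro W z hz
      refine ⟨Sieve.ofObjects X W, hX W, fun V k hk => ?_⟩
      obtain ⟨i, ⟨g⟩⟩ := hk
      refine ⟨0, ?_⟩
      have h1 : secMap φ V (M.val.map k.op z) = 0 := by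
        rw [← secMap_map]
        have : secMap φ W z = 0 := hz
        rw [this, map_zero]
        rfl
      have h2 : secMap φ V 0 = 0 := map_zero _
      rw [(hbij V i g).1 (h1.trans h2.symm)]
      exact secMap_zero V 0
    exact (S.exact_iff_mono rfl).1 hS
  have hepi : Epi φ := by
    let S : ShortComplex (ModSite.Mod O) := ShortComplex.mk φ (0 : N ⟶ N) comp_zero
    have hS : S.Exact := by
      apply exact_of_locallyExact
      intro W z _
      refine ⟨Sieve.ofObjects X W, hX W, fun V k hk => ?_⟩
      obtain ⟨i, ⟨g⟩⟩ := hk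
      exact (hbij V i g).2 _
    exact (S.exact_iff_epi rfl).1 hS
  exact isIso_of_mono_of_epi φ

theorem preservesColimit_of_restr {Λ : Type u} [SmallCategory Λ] (D : Λ ⥤ ModSite.Mod O)
    (H : ModSite.Mod O ⥤ ModSite.Mod O) {I : Type*} (X : I → C) (hX : J.CoversTop X)
    (h : ∀ i, PreservesColimit D (H ⋙ ModSite.restr O (X i))) : PreservesColimit D H := by
  have : IsIso (colimit.post D H) := by
    apply isIso_of_isIso_restr X hX
    intro i
    have h1 := colimit.post_post D H (ModSite.restr O (X i))
    have h2 : IsIso (colimit.post D (H ⋙ ModSite.restr O (X i))) := inferInstance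
    have h3 : IsIso (colimit.post (D ⋙ H) (ModSite.restr O (X i))) := inferInstance
    rw [← h1] at h2
    exact IsIso.of_isIso_comp_left (colimit.post (D ⋙ H) (ModSite.restr O (X i))) _
  exact preservesColimit_of_isIso_post H D

end Groth.Agent.Lib.Helper74.HomFP
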