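import Groth.Agent.Lib.Helper74.HomFP.GammaFilt
import Groth.Agent.Lib.Helper74.HomFP.Global
import Groth.Agent.Lib.Helper74.CohColim.AbFilt
import Groth.Agent.Lib.Helper30.ModSAFT
import Mathlib

/-!
# `Hom_O(O, -)` and `Hom_O(F, -)` commute with filtered colimits (helper74)

Under the hypothesis of `GammaFilt` (enough coherent covers of the final object), global sections
of `O`-modules commute with filtered colimits, and `Hom_O(F, -) = Γ(ℋom_O(F, -))`.
-/

set_option autoImplicit false
universe u

open CategoryTheory CategoryTheory.Limits Opposite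

namespace Groth.Agent.Lib.Helper74.HomFP

open Groth.Agent.Lib.Helper30 Groth.Agent.Lib.Helper30.ExtZero Groth.Agent.Lib.Helper30.ModTensorAdj

variable {C : Type u} [SmallCategory C] {J : GrothendieckTopology C}

/-- maps from the final sheaf are compatible families of sections -/
noncomputable def termHomEquiv (N : Sheaf J (Type u)) :
    (⊤_ (Sheaf J (Type u)) ⟶ N) ≃ N.obj.sections where
  toFun σ := ⟨fun U => σ.hom.app U (ptSec U.unop), by
    intro U V f
    have h := NatTrans.naturality_apply σ.hom f (ptSec U.unop)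
    refine h.symm.trans ?_
    congr 1
    exact (subsingleton_terminal_sections V.unop).elim _ _⟩
  invFun s := ⟨{ app := fun U => ↾(fun _ => s.1 U)
                 naturality := fun U V f => by
                   ext x
                   exact (s.2 f).symm }⟩
  left_inv σ := by
    apply Sheaf.hom_ext
    ext U x
    show σ.hom.app U (ptSec U.unop) = σ.hom.app U x
    congr 1
    exact (subsingleton_terminal_sections U.unop).elim _ _
  right_inv s := rfl

variable (O : Sheaf J CommRingCat.{u})

/-- the underlying sheaf of sets of a module -/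
noncomputable abbrev Rset : ModSite.Mod O ⥤ Sheaf J (Type u) :=
  SheafOfModules.toSheaf (ModSite.ringSh O) ⋙ sheafCompose J (forget AddCommGrpCat.{u})

/-- `Hom_O(O, M) = Γ(M)` -/
noncomputable def unitHomEquivTerm (M : ModSite.Mod O) :
    (ModSite.unit O ⟶ M) ≃ (⊤_ (Sheaf J (Type u)) ⟶ (Rset O).obj M) :=
  (SheafOfModules.unitHomEquiv M).trans (termHomEquiv ((Rset O).obj M)).symm

lemma unitHomEquivTerm_comp {M N : ModSite.Mod O} (a : ModSite.unit O ⟶ M) (p : M ⟶ N) :
    unitHomEquivTerm O N (a ≫ p) = unitHomEquivTerm O M a ≫ (Rset O).map p := by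
  apply Sheaf.hom_ext
  ext U x
  rfl

section

variable {Λ : Type u} [SmallCategory Λ] [IsFiltered Λ]
  (S : Set (Sheaf J (Type u)))
  (hSa : ∀ F : Sheaf J (Type u), Epi (terminal.from F) →
    ∃ K ∈ S, Epi (terminal.from K) ∧ Nonempty (K ⟶ F))
  (hSb : ∀ K ∈ S, CohCx.IsQcObject (K ⨯ K))

instance preservesColimit_Rset (E : Λ ⥤ ModSite.Mod O) : PreservesColimit E (Rset O) := by
  haveI : PreservesColimit (E ⋙ SheafOfModules.toSheaf (ModSite.ringSh O))
      (sheafCompose J (forget AddCommGrpCat.{u})) :=
    Groth.Agent.Lib.Helper74.CohColim.preservesColimit_Fg _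
  exact comp_preservesColimit _ _

include hSa hSb in
/-- global sections of modules commute with filtered colimits -/
theorem preservesColimit_coyoneda_unit (E : Λ ⥤ ModSite.Mod O) :
    PreservesColimit E (coyoneda.obj (op (ModSite.unit O))) := by
  apply preservesColimit_of_preserves_colimit_cocone (colimit.isColimit E)
  have hc' : IsColimit ((Rset O).mapCocone (colimit.cocone E)) :=
    isColimitOfPreserves _ (colimit.isColimit E)
  apply Types.FilteredColimit.isColimitOf'
  · intro a
    obtain ⟨j, t, ht⟩ := exists_factor_terminal (E ⋙ Rset O) S hSa hSb hc'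
      (unitHomEquivTerm O _ a)
    refine ⟨j, (unitHomEquivTerm O _).symm t, ?_⟩
    apply (unitHomEquivTerm O _).injective
    show _ = unitHomEquivTerm O _ ((unitHomEquivTerm O _).symm t ≫ colimit.ι E j)
    rw [unitHomEquivTerm_comp, Equiv.apply_symm_apply]
    exact ht.symm
  · intro i x y hxy
    have hxy' : x ≫ colimit.ι E i = y ≫ colimit.ι E i := hxy
    have h1 : unitHomEquivTerm O _ x ≫ ((Rset O).mapCocone (colimit.cocone E)).ι.app i =
        unitHomEquivTerm O _ y ≫ ((Rset O).mapCocone (colimit.cocone E)).ι.app i := by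
      show unitHomEquivTerm O _ x ≫ (Rset O).map (colimit.ι E i) =
        unitHomEquivTerm O _ y ≫ (Rset O).map (colimit.ι E i)
      rw [← unitHomEquivTerm_comp, ← unitHomEquivTerm_comp, hxy']
    obtain ⟨k, φ, hφ⟩ := exists_map_eq_terminal (E ⋙ Rset O) S hSa hSb hc' i _ _ h1
    refine ⟨k, φ, ?_⟩
    show x ≫ E.map φ = y ≫ E.map φ
    apply (unitHomEquivTerm O _).injective
    rw [unitHomEquivTerm_comp, unitHomEquivTerm_comp]
    exact hφ

end

/-- `O ⊗ F ≅ F` -/
noncomputable def unitTensorIso (F : ModSite.Mod O) : (tns O F).obj (ModSite.unit O) ≅ F :=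
  (tensorBiSymm O (ModSite.unit O)).app F ≪≫ (tensorUnitIso O).app F

/-- `Hom_O(F, -) = Γ(ℋom_O(F, -))` -/
noncomputable def coyonedaIso (F : ModSite.Mod O) [ModSite.HasSheafHom F] :
    coyoneda.obj (op F) ≅ ModSite.sheafHom F ⋙ coyoneda.obj (op (ModSite.unit O)) :=
  NatIso.ofComponents (fun M => Equiv.toIso
    (((unitTensorIso O F).symm.homFromEquiv).trans
      ((ModSite.sheafHomAdj F).homEquiv (ModSite.unit O) M))) (by
    intro M M' p
    ext f
    show (ModSite.sheafHomAdj F).homEquiv (ModSite.unit O) M' ((unitTensorIso O F).hom ≫ f ≫ p) =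
      (ModSite.sheafHomAdj F).homEquiv (ModSite.unit O) M ((unitTensorIso O F).hom ≫ f) ≫
        (ModSite.sheafHom F).map p
    rw [← Category.assoc, Adjunction.homEquiv_naturality_right])

section

variable {Λ : Type u} [SmallCategory Λ] [IsFiltered Λ]
  (S : Set (Sheaf J (Type u)))
  (hSa : ∀ F : Sheaf J (Type u), Epi (terminal.from F) →
    ∃ K ∈ S, Epi (terminal.from K) ∧ Nonempty (K ⟶ F))
  (hSb : ∀ K ∈ S, CohCx.IsQcObject (K ⨯ K))

include hSa hSb in
/-- `Hom_O(F, -)` preserves a filtered colimit as soon as `ℋom_O(F, -)` does -/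
theorem preservesColimit_coyoneda_of_sheafHom (F : ModSite.Mod O) [ModSite.HasSheafHom F]
    (D : Λ ⥤ ModSite.Mod O) (hD : PreservesColimit D (ModSite.sheafHom F)) :
    PreservesColimit D (coyoneda.obj (op F)) := by
  haveI := hD
  haveI : PreservesColimit (D ⋙ ModSite.sheafHom F) (coyoneda.obj (op (ModSite.unit O))) :=
    preservesColimit_coyoneda_unit O S hSa hSb _
  haveI : PreservesColimit D (ModSite.sheafHom F ⋙ coyoneda.obj (op (ModSite.unit O))) :=
    comp_preservesColimit _ _
  exact preservesColimit_of_natIso D (coyonedaIso O F).symm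

end

end Groth.Agent.Lib.Helper74.HomFP
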